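import Groth.Agent.H21Diag.CommMaxTorus
import Groth.Agent.H21Diag.MaxTorus
import Groth.Agent.H21Diag.TorusPart
import Groth.Agent.H21Diag.SplitSubtori
import Groth.Agent.H21Diag.TorusQuot
import Groth.Agent.H21Dyn.Scheme
import Groth.Agent.H21Hom.TorsionOrder
import Groth.Agent.H21Hom.Bridge
import Groth.Agent.H21Rank1.NormalEtale
import Groth.Agent.H19Chev.TorusCriterion
import Groth.Agent.H19Grp.Kernel
import Groth.Agent.H19Grp.Reduced
import Groth.Agent.H19Grp.SmoothLocus
import Groth.Agent.H13AlgSp.DecentPoint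
import Groth.Agent.H20Torus.Scheme
import Groth.Agent.H21Mono.ClosedImmersion
import Groth.Agent.S2966
import Groth.Agent.S3278
import Groth.Agent.S5431
import Groth.Agent.S5247
import Groth.Agent.H20Conj.MaxConv

/-!
Over an algebraically closed field, central homomorphisms of multiplicative type into a smooth connected affine
group factor through every maximal torus.
-/

set_option autoImplicit false
set_option linter.style.haveILetI false
set_option linter.unusedSectionVars false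
set_option backward.isDefEq.respectTransparency false
set_option synthInstance.maxHeartbeats 400000
set_option maxHeartbeats 2000000

universe u

open CategoryTheory CategoryTheory.Limits MonoidalCategory CartesianMonoidalCategory MonObj AlgebraicGeometry
open TensorProduct

noncomputable section

namespace Groth.Agent.H21Nilp

variable {k : Type u} [Field k] [IsAlgClosed k]

local notation "Sk" => Spec (CommRingCat.of k)

/-- a homomorphism of multiplicative type into a group without subtorus is trivial -/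
theorem eq_one_of_noSubtorus {U H : Over Sk} [GrpObj U] [GrpObj H] [IsAffine U.left] [ConnectedSpace ↥U.left]
    [Smooth U.hom] (hU : Red.HasNoSubtorus k U) (hH : SGA3x.IsMultTypeFT H) (v : H ⟶ U) [IsMonHom v] : v = 1 := by
  obtain ⟨B, _, _, hBft, -, hBu, ⟨eU⟩⟩ := H20Torus.exists_isUnipotent_model U hU
  haveI := H21Diag.isAffineHom_of_multTypeFT hH
  haveI : IsAffine H.left := isAffine_of_isAffineHom H.hom
  haveI hlft := H21Diag.lft_of_multTypeFT hH
  obtain ⟨A, _, _, ⟨eH⟩⟩ := H21Hom.exists_hopf_model H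
  haveI hAft : Algebra.FiniteType k A := by
    let e' : H ≅ H21Hom.specGrp k A := (Grp.forget _).mapIso eH
    haveI : IsIso e'.inv.left := ((Over.forget _).mapIso e').isIso_inv
    haveI : LocallyOfFiniteType (H21Hom.specGrp k A).hom := by rw [← Over.w e'.inv]; infer_instance
    have h : (CommRingCat.ofHom (algebraMap k A)).hom.FiniteType :=
      (HasRingHomProperty.Spec_iff (P := @LocallyOfFiniteType)).1
        (show LocallyOfFiniteType (Spec.map (CommRingCat.ofHom (algebraMap k A))) from ‹_›)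
    exact RingHom.finiteType_algebraMap.1 h
  have hAm : SGA3x.IsMultTypeFT (H21Hom.specGrp k A) := by
    haveI : IsMonHom eH.inv.hom.hom := eH.inv.hom.isMonHom_hom
    exact H21Hom.isMultTypeFT_of_iso hH eH
  obtain ⟨N, _, -, ⟨eA⟩⟩ := H21Hom.exists_chart_algClosed hAft (H21Hom.isMultType_of_specGrp hAm)
  have hdiag : HopfRep.IsDiagonalizable (AlgebraicClosure k) (AlgebraicClosure k ⊗[k] A) :=
    H19Chev.TorusCriterion.isDiagonalizable_of_isDiag ⟨N, inferInstance, H19Mult.isDiag_baseChange ((Bialgebra.TensorProduct.lid k A).trans eA) (AlgebraicClosure k)⟩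
  let w : Grp.mk (H21Hom.specGrp k A) ⟶ Grp.mk (H21Hom.specGrp k B) := eH.inv ≫ Grp.homMk v ≫ eU.hom
  let F := hopfSpec (CommRingCat.of k)
  let w' : F.obj (Opposite.op (CommHopfAlgCat.of k A)) ⟶ F.obj (Opposite.op (CommHopfAlgCat.of k B)) := w
  let m := ((hopfSpec.fullyFaithful (R := CommRingCat.of k)).preimage w').unop
  have hm : F.map m.op = w' := (hopfSpec.fullyFaithful (R := CommRingCat.of k)).map_preimage w'
  let φ : B →ₐc[k] A := m.hom
  let c₁ : CommHopfAlgCat.of k B ⟶ CommHopfAlgCat.of k k := CommHopfAlgCat.ofHom (Bialgebra.counitBialgHom k B)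
  let c₂ : CommHopfAlgCat.of k k ⟶ CommHopfAlgCat.of k A := CommHopfAlgCat.ofHom (Bialgebra.unitBialgHom k A)
  have htriv := (S2966.result hdiag hBu).1 φ
  have hφ : m = c₁ ≫ c₂ := CommHopfAlgCat.hom_ext (BialgHom.ext fun b => htriv b)
  have hsub : ∀ (X : Over Sk) (a b : X ⟶ H21Hom.specGrp k k), a = b := fun X a b => by
    have h1 : (H21Hom.specGrp k k).hom = 𝟙 Sk := by
      show Spec.map (CommRingCat.ofHom (algebraMap k k)) = 𝟙 _
      exact Spec.map_id _
    haveI : IsIso (H21Hom.specGrp k k).hom := by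
      show IsIso (Spec.map (CommRingCat.ofHom (algebraMap k k)))
      rw [show CommRingCat.ofHom (algebraMap k k) = 𝟙 (CommRingCat.of k) from rfl]
      infer_instance
    exact Over.OverMorphism.ext ((cancel_mono (H21Hom.specGrp k k).hom).mp ((Over.w a).trans (Over.w b).symm))
  have hw : w.hom.hom = 1 := by
    have h : w.hom.hom = (F.map c₂.op).hom.hom ≫ (F.map c₁.op).hom.hom := by
      change w'.hom.hom = _
      rw [← hm, hφ, op_comp, F.map_comp]
      rfl
    haveI : IsMonHom (M := H21Hom.specGrp k k) (N := H21Hom.specGrp k B) (F.map c₁.op).hom.hom :=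
      (F.map c₁.op).hom.isMonHom_hom
    rw [h, show ((F.map c₂.op).hom.hom : H21Hom.specGrp k A ⟶ H21Hom.specGrp k k) = 1 from hsub _ _ _]
    exact MonObj.one_comp _
  have h1 : eH.hom.hom.hom ≫ w.hom.hom ≫ eU.inv.hom.hom = v := by
    change eH.hom.hom.hom ≫ (eH.inv.hom.hom ≫ v ≫ eU.hom.hom.hom) ≫ eU.inv.hom.hom = v
    simp only [Category.assoc]
    rw [show eU.hom.hom.hom ≫ eU.inv.hom.hom = 𝟙 U from congrArg (fun q => q.hom.hom) eU.hom_inv_id,
      Category.comp_id, ← Category.assoc,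
      show eH.hom.hom.hom ≫ eH.inv.hom.hom = 𝟙 H from congrArg (fun q => q.hom.hom) eH.hom_inv_id, Category.id_comp]
  haveI : IsMonHom eU.inv.hom.hom := eU.inv.hom.isMonHom_hom
  rw [← h1, hw, MonObj.one_comp, MonObj.comp_one]

/-- a subtorus commuting with a maximal torus lies in it -/
theorem factor_of_commute {G T R : Over Sk} [GrpObj G] [GrpObj T] [GrpObj R] [IsSeparated G.hom]
    [LocallyOfFiniteType G.hom] {i : T ⟶ G} (hi : AGF.IsMaxTorus i) (j : R ⟶ G) [IsMonHom j] (hR : Red.IsTorus R)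
    (hcomm : ∀ (X : Over Sk) (x : X ⟶ R) (t : X ⟶ T), (x ≫ j) * (t ≫ i) = (t ≫ i) * (x ≫ j)) :
    ∃ f : R ⟶ T, f ≫ i = j := by
  obtain ⟨hi1, hi2, hT, hmax⟩ := hi
  haveI := hi1
  haveI := hi2
  obtain ⟨r, ⟨eT⟩⟩ := H21Diag.exists_DS_iso_algClosed T hT
  obtain ⟨m, ⟨eR⟩⟩ := H21Diag.exists_DS_iso_algClosed R hR
  haveI : IsMonHom eT.inv.hom.hom := eT.inv.hom.isMonHom_hom
  haveI : IsMonHom eR.inv.hom.hom := eR.inv.hom.isMonHom_hom
  let ι₁ : (Fin r → ℤ) →+ (Fin (r + m) → ℤ) :=
    { toFun := fun x => Fin.append x 0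
      map_zero' := by ext a; refine Fin.addCases (fun a => ?_) (fun a => ?_) a <;> simp
      map_add' := fun x y => by ext a; refine Fin.addCases (fun a => ?_) (fun a => ?_) a <;> simp }
  let ι₂ : (Fin m → ℤ) →+ (Fin (r + m) → ℤ) :=
    { toFun := fun x => Fin.append 0 x
      map_zero' := by ext a; refine Fin.addCases (fun a => ?_) (fun a => ?_) a <;> simp
      map_add' := fun x y => by ext a; refine Fin.addCases (fun a => ?_) (fun a => ?_) a <;> simp }
  let κ₁ : (Fin (r + m) → ℤ) →+ (Fin r → ℤ) :=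
    { toFun := fun x a => x (Fin.castAdd m a), map_zero' := rfl, map_add' := fun x y => rfl }
  let κ₂ : (Fin (r + m) → ℤ) →+ (Fin m → ℤ) :=
    { toFun := fun x a => x (Fin.natAdd r a), map_zero' := rfl, map_add' := fun x y => rfl }
  let p₁ := Red.DSmap Sk ι₁ ≫ eT.inv.hom.hom ≫ i
  let p₂ := Red.DSmap Sk ι₂ ≫ eR.inv.hom.hom ≫ j
  have hc₁₂ : ∀ (X : Over Sk) (a b : X ⟶ Red.DS Sk (Fin (r + m) → ℤ)),
      (a ≫ p₂) * (b ≫ p₁) = (b ≫ p₁) * (a ≫ p₂) := fun X a b => by
    simp only [p₁, p₂]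
    simpa only [Category.assoc] using hcomm X (a ≫ Red.DSmap Sk ι₂ ≫ eR.inv.hom.hom) (b ≫ Red.DSmap Sk ι₁ ≫ eT.inv.hom.hom)
  let f := p₁ * p₂
  haveI : IsMonHom f := H21Diag.isMonHom_of_mul f fun {X} a b => by
    simp only [f, MonObj.comp_mul, MonObj.mul_comp]
    simp only [_root_.mul_assoc]
    rw [← _root_.mul_assoc (a ≫ p₂) (b ≫ p₁), hc₁₂, _root_.mul_assoc]
  have hs₁ : Red.DSmap Sk κ₁ ≫ f = eT.inv.hom.hom ≫ i := by
    have a1 := H21Diag.DSmap_comp_eq_id (S := Sk) ι₁ κ₁ (by ext x a; simp [ι₁, κ₁])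
    have a2 := H21Diag.DSmap_comp_eq_one (S := Sk) ι₂ κ₁ (by ext x a; simp [ι₂, κ₁])
    simp only [f, p₁, p₂, MonObj.comp_mul, ← Category.assoc]
    rw [a1, a2, Category.id_comp, MonObj.one_comp, MonObj.one_comp, _root_.mul_one]
  have hs₂ : Red.DSmap Sk κ₂ ≫ f = eR.inv.hom.hom ≫ j := by
    have a1 := H21Diag.DSmap_comp_eq_id (S := Sk) ι₂ κ₂ (by ext x a; simp [ι₂, κ₂])
    have a2 := H21Diag.DSmap_comp_eq_one (S := Sk) ι₁ κ₂ (by ext x a; simp [ι₁, κ₂])
    simp only [f, p₁, p₂, MonObj.comp_mul, ← Category.assoc]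
    rw [a1, a2, Category.id_comp, MonObj.one_comp, MonObj.one_comp, _root_.one_mul]
  haveI : AddGroup.FG (Fin (r + m) → ℤ) := Module.Finite.iff_addGroup_fg.mp inferInstance
  let s₀ : ↥Sk := (IsLocalRing.closedPoint k : PrimeSpectrum k)
  obtain ⟨Λ, V, hsV, -, hK⟩ := H21Diag.exists_clopen_kerEq f s₀
  obtain ⟨n, ⟨b⟩⟩ := H21Diag.exists_basis (r + m) Λ
  haveI : AddGroup.FG Λ := Module.Finite.iff_addGroup_fg.mp (inferInstanceAs (Module.Finite ℤ Λ.toIntSubmodule))
  let q : Red.DS Sk (Fin (r + m) → ℤ) ⟶ Red.DS Sk Λ := Red.DSmap Sk Λ.subtype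
  obtain ⟨_, _⟩ := H21Diag.flat_surjective_DSmap Sk Λ.subtype Subtype.val_injective
  haveI : LocallyOfFinitePresentation q.left := H18Torsor.DiagExact.locallyOfFinitePresentation_DSmap _
  obtain ⟨J, hJh, hJm, hJ⟩ := H21Quot.exists_mono_desc q f fun X x => hK (by
    rintro _ ⟨z, rfl⟩
    rw [Subsingleton.elim (α := PrimeSpectrum k) (X.hom z) s₀]
    exact hsV) x
  haveI := hJh
  haveI := hJm
  obtain ⟨ψ⟩ := H21Diag.nonempty_DS_iso Sk b
  have hΛ : Red.IsTorus (Red.DS Sk Λ) :=
    H21Diag.isTorus_of_lSplit (H21Diag.lSplit_of_split (r := n) ⟨ψ⟩)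
  haveI : IsIso eT.hom.hom.hom := ((Grp.forget _).mapIso eT).isIso_hom
  let g : T ⟶ Red.DS Sk Λ := eT.hom.hom.hom ≫ Red.DSmap Sk κ₁ ≫ q
  haveI := hmax (Red.DS Sk Λ) J g hΛ (by
    simp only [g, Category.assoc, hJ, hs₁]
    rw [← Category.assoc, show eT.hom.hom.hom ≫ eT.inv.hom.hom = 𝟙 T from congrArg (fun q => q.hom.hom) eT.hom_inv_id,
      Category.id_comp])
  refine ⟨eR.hom.hom.hom ≫ Red.DSmap Sk κ₂ ≫ q ≫ inv g, ?_⟩
  have hJi : inv g ≫ i = J := (IsIso.inv_comp_eq g).mpr (by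
    simp only [g, Category.assoc, hJ, hs₁]
    rw [← Category.assoc, show eT.hom.hom.hom ≫ eT.inv.hom.hom = 𝟙 T from congrArg (fun q => q.hom.hom) eT.hom_inv_id,
      Category.id_comp])
  simp only [Category.assoc, hJi, hJ, hs₂]
  rw [← Category.assoc, show eR.hom.hom.hom ≫ eR.inv.hom.hom = 𝟙 R from congrArg (fun q => q.hom.hom) eR.hom_inv_id,
    Category.id_comp]

/-- homomorphisms of multiplicative type into a group whose maximal torus is central factor through it -/
theorem factor_central_maxTorus {C T H : Over Sk} [GrpObj C] [GrpObj T] [GrpObj H] [IsAffine C.left] [Smooth C.hom]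
    [ConnectedSpace ↥C.left] (i : T ⟶ C) [IsMonHom i] [Mono i] (hT : Red.IsTorus T)
    (hcen : ∀ (X : Over Sk) (x : X ⟶ T) (g : X ⟶ C), (x ≫ i) * g = g * (x ≫ i))
    (hmax : ∀ (R : Over Sk) [GrpObj R] (j : R ⟶ C) [IsMonHom j] [Mono j], Red.IsTorus R → ∃ f : R ⟶ T, f ≫ i = j)
    (hH : SGA3x.IsMultTypeFT H) (u : H ⟶ C) [IsMonHom u] : ∃ w : H ⟶ T, w ≫ i = u := by
  have hTm := H21Diag.isMultTypeFT_of_isTorus hT
  haveI := H21Diag.lft_of_multTypeFT hTm
  haveI : IsClosedImmersion i.left := by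
    obtain ⟨r, ⟨e⟩⟩ := H21Diag.exists_DS_iso_algClosed T hT
    haveI : IsMonHom e.inv.hom.hom := e.inv.hom.isMonHom_hom
    haveI : IsIso e.inv.hom.hom := ((Grp.forget _).mapIso e).isIso_inv
    haveI : IsIso e.hom.hom.hom := ((Grp.forget _).mapIso e).isIso_hom
    haveI : IsIso e.hom.hom.hom.left := inferInstanceAs (IsIso ((Over.forget _).map e.hom.hom.hom))
    haveI : AddGroup.FG (Fin r → ℤ) := Module.Finite.iff_addGroup_fg.mp inferInstance
    haveI := H21Mono.isClosedImmersion_of_mono_DS (e.inv.hom.hom ≫ i)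
    have h : e.hom.hom.hom ≫ e.inv.hom.hom ≫ i = i := by
      rw [← Category.assoc, show e.hom.hom.hom ≫ e.inv.hom.hom = 𝟙 T from congrArg (fun q => q.hom.hom) e.hom_inv_id,
        Category.id_comp]
    rw [← h, Over.comp_left]
    infer_instance
  obtain ⟨Q, gQ, q, hq, hQa, hQft, hqf, hqs, hker⟩ := S3278.result k C T i fun X g n => ⟨n, by
    rw [← hcen, mul_inv_cancel_right]⟩
  haveI := hq
  haveI := hQa
  haveI := hQft
  haveI := hqf
  haveI := hqs
  haveI : LocallyOfFiniteType C.hom := inferInstance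
  haveI : ConnectedSpace ↥Q.left := q.left.surjective.connectedSpace q.left.continuous
  haveI : IsReduced C.left := H13AlgSp.isReduced_of_smooth_mor C.hom
  haveI : IsReduced Q.left := H19Grp.isReduced_of_flat_surjective q.left
  haveI : Smooth Q.hom := H19Grp.smooth_of_isReduced_perfect (G := Q)
  haveI : QuasiCompact q.left := inferInstance
  have hQ : Red.HasNoSubtorus k Q := by
    intro R _ v _ _ hR
    let P : Over Sk := pullback q v
    let i' : P ⟶ C := pullback.fst q v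
    let p : P ⟶ R := pullback.snd q v
    have hP : IsPullback i' p q v := IsPullback.of_hasPullback q v
    haveI : Mono i' := inferInstanceAs (Mono (pullback.fst q v))
    obtain ⟨gP, hi'⟩ : ∃ _ : GrpObj P, IsMonHom i' := by
      refine H21Diag.exists_grpObj_of_mono i' ⟨hP.lift 1 1 (by rw [MonObj.one_comp, MonObj.one_comp]), hP.lift_fst _ _ _⟩
        (fun X a b => ⟨hP.lift ((a ≫ i') * (b ≫ i')) ((a ≫ p) * (b ≫ p)) ?_, hP.lift_fst _ _ _⟩)
        fun X a => ⟨hP.lift (a ≫ i')⁻¹ (a ≫ p)⁻¹ ?_, hP.lift_fst _ _ _⟩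
      · simp only [MonObj.mul_comp, Category.assoc, hP.w]
      · simp only [GrpObj.inv_comp, Category.assoc, hP.w]
    letI := gP
    haveI := hi'
    haveI : IsMonHom (p ≫ v) := hP.w ▸ (inferInstance : IsMonHom (i' ≫ q))
    haveI : IsMonHom p := H21Diag.isMonHom_of_comp_mono p v
    have hsqL := hP.map (Over.forget Sk)
    simp only [Over.forget_obj, Over.forget_map] at hsqL
    haveI : Surjective p.left := MorphismProperty.of_isPullback (P := @Surjective) hsqL hqs
    haveI : Flat p.left := MorphismProperty.of_isPullback (P := @Flat) hsqL hqf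
    haveI : QuasiCompact p.left := MorphismProperty.of_isPullback (P := @QuasiCompact) hsqL ‹_›
    let i₀ : T ⟶ P := hP.lift i 1 (by rw [H19Grp.kernel_comp_eq_one hker, MonObj.one_comp])
    have hi₀ : i₀ ≫ i' = i := hP.lift_fst _ _ _
    have hi₀p : i₀ ≫ p = 1 := hP.lift_snd _ _ _
    haveI : IsMonHom (i₀ ≫ i') := hi₀ ▸ (inferInstance : IsMonHom i)
    haveI : IsMonHom i₀ := H21Diag.isMonHom_of_comp_mono i₀ i'
    have hker' : AlgGrp.IsKernel i₀ p := H19Grp.isKernel_of hi₀p
      (fun X a b h => (cancel_mono i).mp (by rw [← hi₀, ← Category.assoc, h, Category.assoc]))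
      fun X x hx => by
        obtain ⟨n, hn⟩ := H19Grp.kernel_lift hker (x ≫ i') (by
          rw [Category.assoc, hP.w, ← Category.assoc, hx, MonObj.one_comp])
        exact ⟨n, (cancel_mono i').mp (by rw [Category.assoc, hi₀, hn])⟩
    have hRm := H21Diag.isMultTypeFT_of_isTorus hR
    have hPm : SGA3x.IsMultTypeFT P := S5431.result Sk P T R p i₀ hker' hTm hRm (Or.inr fun s => by
      haveI := H21Rank1.irreducibleSpace_of_isTorus hR
      rw [show R.hom.base ⁻¹' {s} = Set.univ from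
        Set.eq_univ_of_forall fun x => Subsingleton.elim (α := PrimeSpectrum k) _ _]
      exact isConnected_univ)
    obtain ⟨K, gK, iK, n, f, f', hiK, hiKc, hKT, hn, hpos, hf, hfac⟩ := H21Diag.exists_maxTorus hPm
    letI := gK
    haveI := hiK
    haveI := hiKc
    haveI : Mono iK := Over.mono_of_mono_left iK
    obtain ⟨g, hg⟩ := hmax K (iK ≫ i') hKT
    have hgi : g ≫ i₀ = iK := (cancel_mono i').mp (by rw [Category.assoc, hi₀, hg])
    let s₀ : ↥Sk := (IsLocalRing.closedPoint k : PrimeSpectrum k)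
    have hpow : ((𝟙 P : P ⟶ P) ^ n s₀) ≫ p = 1 := by
      rw [← hf (n s₀) (𝟙 P) (fun z => congrArg n (Subsingleton.elim (α := PrimeSpectrum k) _ _)), Category.id_comp,
        ← hfac, ← hgi, Category.assoc, Category.assoc, hi₀p, MonObj.comp_one, MonObj.comp_one]
    haveI : Epi p.left := Flat.epi_of_flat_of_surjective _
    haveI : Epi p := Over.epi_of_epi_left p
    have hpowR : (𝟙 R : R ⟶ R) ^ n s₀ = 1 := by
      rw [MonObj.pow_comp, Category.id_comp] at hpow
      rw [← cancel_epi p, MonObj.comp_one, MonObj.comp_pow, Category.comp_id, hpow]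
    obtain ⟨r, ⟨e⟩⟩ := H21Diag.exists_DS_iso_algClosed R hR
    haveI : IsMonHom e.hom.hom.hom := e.hom.hom.isMonHom_hom
    haveI : IsMonHom e.inv.hom.hom := e.inv.hom.isMonHom_hom
    have hpowD : (𝟙 (Red.DS Sk (Fin r → ℤ))) ^ n s₀ = 1 := by
      let E : (R ⟶ R) →* (Red.DS Sk (Fin r → ℤ) ⟶ Red.DS Sk (Fin r → ℤ)) :=
        { toFun := fun a => e.inv.hom.hom ≫ a ≫ e.hom.hom.hom
          map_one' := by simp only [MonObj.one_comp, MonObj.comp_one]
          map_mul' := fun a b => by simp only [MonObj.mul_comp, MonObj.comp_mul] }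
      have h := congrArg E hpowR
      rw [map_pow, map_one] at h
      have h1 : E (𝟙 R) = 𝟙 (Red.DS Sk (Fin r → ℤ)) := by
        change e.inv.hom.hom ≫ 𝟙 R ≫ e.hom.hom.hom = _
        rw [Category.id_comp]
        exact congrArg (fun q => q.hom.hom) e.inv_hom_id
      rwa [h1] at h
    rw [H21Diag.id_pow_eq_DSmap] at hpowD
    obtain ⟨-, hsj⟩ := H21Diag.flat_surjective_DSmap Sk (nsmulAddMonoidHom (α := Fin r → ℤ) (n s₀)) (fun a b hab =>
      smul_right_injective (Fin r → ℤ) (hpos s₀).ne' hab)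
    rw [hpowD] at hsj
    have hr0 : r = 0 := by
      haveI : Subsingleton ↥(Red.DS Sk (Fin r → ℤ)).left := by
        refine ⟨fun a b => ?_⟩
        obtain ⟨a', rfl⟩ := hsj.surj a
        obtain ⟨b', rfl⟩ := hsj.surj b
        rw [Hom.one_def, Over.comp_left, Scheme.Hom.comp_apply, Scheme.Hom.comp_apply]
        exact congrArg _ (Subsingleton.elim (α := PrimeSpectrum k) _ _)
      haveI : Nonempty ↥(Red.DS Sk (Fin r → ℤ)).left := ⟨(η[Red.DS Sk (Fin r → ℤ)]).left s₀⟩
      haveI : DiscreteTopology ↥(Red.DS Sk (Fin r → ℤ)).left := inferInstance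
      have h : ((r : ℕ) : WithBot ℕ∞) ≤ 0 :=
        (H21Diag.dim_DS_field (K := k) r).symm.le.trans (topologicalKrullDim_zero_of_discreteTopology _)
      exact Nat.le_zero.mp (by exact_mod_cast h)
    subst hr0
    have hsub : ∀ {X : Over Sk} (a b : X ⟶ R), a = b := fun {X} a b => by
      have h := congrArg (· ≫ e.inv.hom.hom) (H21Diag.subsingleton_zero (a ≫ e.hom.hom.hom) (b ≫ e.hom.hom.hom))
      simp only [Category.assoc] at h
      rw [show e.hom.hom.hom ≫ e.inv.hom.hom = 𝟙 R from congrArg (fun q => q.hom.hom) e.hom_inv_id,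
        Category.comp_id, Category.comp_id] at h
      exact h
    let d : R ⟶ 𝟙_ (Over Sk) := toUnit R
    haveI : IsIso d := ⟨η[R], hsub _ _, toUnit_unique _ _⟩
    have hd : d.left = R.hom := (Category.comp_id d.left).symm.trans (Over.w d)
    change IsIso R.hom
    rw [← hd]
    exact inferInstanceAs (IsIso ((Over.forget _).map d))
  obtain ⟨n, hn⟩ := H19Grp.kernel_lift hker u (eq_one_of_noSubtorus hQ hH (u ≫ q))
  exact ⟨n, hn⟩

end Groth.Agent.H21Nilp

noncomputable section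

namespace Groth.Agent.H21Nilp

variable {k : Type u} [Field k] [IsAlgClosed k]

local notation "Sk" => Spec (CommRingCat.of k)

/-- Over an algebraically closed field, homomorphisms of multiplicative type commuting with a maximal torus
factor through it. -/
theorem factor_maxTorus_of_commute {G T H : Over Sk} [GrpObj G] [GrpObj T] [GrpObj H] [IsAffineHom G.hom]
    [Smooth G.hom] [ConnectedSpace ↥G.left] {i : T ⟶ G} (hi : Red.IsMaximalTorus i)
    (hH : SGA3x.IsMultTypeFT H) (u : H ⟶ G) [IsMonHom u]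
    (hc : ∀ (X : Over Sk) (x : X ⟶ H) (t : X ⟶ T), (x ≫ u) * (t ≫ i) = (t ≫ i) * (x ≫ u)) :
    ∃ w : H ⟶ T, w ≫ i = u := by
  haveI : IsAffine G.left := isAffine_of_isAffineHom G.hom
  obtain ⟨hi1, hi2, hT, -⟩ := id hi
  haveI := hi1
  haveI := hi2
  have hTm := H21Diag.isMultTypeFT_of_isTorus hT
  obtain ⟨C, gC, c, ⟨hcm, hcmono, hCiff⟩, hcl, hCs⟩ := S5247.result T G hTm inferInstance inferInstance i
  haveI := hcm
  haveI := hcmono
  haveI := hcl
  haveI := hCs
  haveI : LocallyOfFiniteType G.hom := inferInstance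
  haveI : ConnectedSpace ↥C.left := H21Dyn.connectedSpace_centralizer_torus G T hT i C c hCiff
  haveI : IsAffine C.left := isAffine_of_isAffineHom c.left
  obtain ⟨f, hf⟩ := (hCiff T i).mpr fun X x t => by
    rw [← MonObj.mul_comp, ← MonObj.mul_comp, H21Diag.mult_comm hTm]
  obtain ⟨u', hu'⟩ := (hCiff H u).mpr fun X x t => hc X x t
  haveI : IsMonHom (f ≫ c) := hf ▸ hi1
  haveI : IsMonHom f := H21Diag.isMonHom_of_comp_mono f c
  haveI : Mono (f ≫ c) := hf ▸ hi2
  haveI : Mono f := mono_of_mono f c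
  haveI : IsMonHom (u' ≫ c) := hu' ▸ ‹IsMonHom u›
  haveI : IsMonHom u' := H21Diag.isMonHom_of_comp_mono u' c
  have hcen : ∀ (X : Over Sk) (x : X ⟶ T) (g : X ⟶ C), (x ≫ f) * g = g * (x ≫ f) := fun X x g => by
    apply (cancel_mono c).mp
    rw [MonObj.mul_comp, MonObj.mul_comp, Category.assoc, hf]
    have h := (hCiff X (g ≫ c)).mp ⟨g, rfl⟩ X (𝟙 X) x
    rw [Category.id_comp] at h
    exact h.symm
  have hmax : ∀ (R : Over Sk) [GrpObj R] (j : R ⟶ C) [IsMonHom j] [Mono j], Red.IsTorus R →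
      ∃ g : R ⟶ T, g ≫ f = j := fun R _ j _ _ hR => by
    obtain ⟨g, hg⟩ := factor_of_commute (H20Conj.isMaxTorus_of_isMaximalTorus hi) (j ≫ c) hR fun X x t =>
      (hCiff R (j ≫ c)).mp ⟨j, rfl⟩ X x t
    exact ⟨g, (cancel_mono c).mp (by rw [Category.assoc, hf, hg])⟩
  obtain ⟨w, hw⟩ := factor_central_maxTorus f hT hcen hmax hH u'
  exact ⟨w, by rw [← hf, ← Category.assoc, hw, hu']⟩

end Groth.Agent.H21Nilp
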