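import Groth.Agent.H21Nilp.Torus
import Groth.Agent.H21Diag.FibreTrivial
import Groth.Agent.H21Diag.CommMaxTorus

/-!
Tori in smooth affine groups with connected nilpotent geometric fibres are central.
-/

set_option autoImplicit false
set_option linter.style.haveILetI false
set_option linter.unusedSectionVars false
set_option backward.isDefEq.respectTransparency false
set_option synthInstance.maxHeartbeats 400000
set_option maxHeartbeats 1000000

universe u

open CategoryTheory CategoryTheory.Limits MonoidalCategory CartesianMonoidalCategory MonObj AlgebraicGeometry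

noncomputable section

namespace Groth.Agent.H21Nilp

/-- every point of the base carries a geometric fibre which is connected and nilpotent -/
def HasNilFibres {S : Scheme.{u}} (G : Over S) [GrpObj G] : Prop :=
  ∀ s : S, ∃ (Ω : Type u) (_ : Field Ω) (_ : IsAlgClosed Ω) (z : Spec (CommRingCat.of Ω) ⟶ S),
    z.base (IsLocalRing.closedPoint Ω) = s ∧ ConnectedSpace ↥(Red.bc z G).left ∧
      Group.IsNilpotent (𝟙_ (Over (Spec (CommRingCat.of Ω))) ⟶ Red.bc z G)

theorem hasNilFibres_bc {S S' : Scheme.{u}} (f : S' ⟶ S) [Etale f] {G : Over S} [GrpObj G]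
    (hconn : ∀ s : S, ConnectedSpace ↥(Red.geomFibre s G).left)
    (hnil : ∀ s : S, Group.IsNilpotent
      (𝟙_ (Over (Spec (CommRingCat.of (AlgebraicClosure (S.residueField s))))) ⟶ Red.geomFibre s G)) :
    HasNilFibres (Red.bc f G) := by
  intro w
  obtain ⟨z, hz, hzw⟩ := H21Diag.exists_geomPt_lift' f w
  let θ := H21Red0.bcTrans z f (Red.geomPt (f.base w)) hz G
  haveI : IsMonHom θ.hom := H21Red0.isMonHom_bcTrans z f _ hz G
  haveI : IsMonHom θ.inv := inferInstance
  refine ⟨_, inferInstance, inferInstance, z, hzw, ?_, ?_⟩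
  · haveI := hconn (f.base w)
    let e : ↥(Red.bc z (Red.bc f G)).left ≃ₜ ↥(Red.geomFibre (f.base w) G).left :=
      Scheme.homeoOfIso ((Over.forget _).mapIso θ)
    exact e.symm.surjective.connectedSpace e.symm.continuous
  · haveI := hnil (f.base w)
    let E : (𝟙_ (Over (Spec (CommRingCat.of (AlgebraicClosure (S.residueField (f.base w)))))) ⟶
          Red.geomFibre (f.base w) G) ≃*
        (𝟙_ (Over (Spec (CommRingCat.of (AlgebraicClosure (S.residueField (f.base w)))))) ⟶ Red.bc z (Red.bc f G)) :=
      { toFun := fun a => a ≫ θ.inv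
        invFun := fun a => a ≫ θ.hom
        left_inv := fun a => by simp
        right_inv := fun a => by simp
        map_mul' := fun a b => MonObj.mul_comp a b θ.inv }
    exact Group.nilpotent_of_mulEquiv E

/-- **Tori are central when the geometric fibres are connected and nilpotent.** -/
theorem central_of_nilFibres {S : Scheme.{u}} {G R : Over S} [GrpObj G] [GrpObj R] [Smooth G.hom] [IsAffineHom G.hom]
    (hG : HasNilFibres G) (j : R ⟶ G) [IsMonHom j] (hR : Red.IsTorus R)
    (X : Over S) (x : X ⟶ R) (g : X ⟶ G) : (x ≫ j) * g = g * (x ≫ j) := by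
  let act : R ⊗ G ⟶ G := (fst R G ≫ j) * snd R G * (fst R G ≫ j)⁻¹
  have hact : ∀ {Y : Over S} (a : Y ⟶ R) (b : Y ⟶ G), lift a b ≫ act = (a ≫ j) * b * (a ≫ j)⁻¹ := fun a b => by
    simp only [act, MonObj.comp_mul, GrpObj.comp_inv, lift_fst_assoc, lift_snd]
  have hw1 : η[R] ▷ G = lift (1 : 𝟙_ _ ⊗ G ⟶ R) (snd (𝟙_ _) G) := by
    refine CartesianMonoidalCategory.hom_ext _ _ ?_ ?_
    · rw [lift_fst, whiskerRight_fst, Hom.one_def]
      congr 1
    · rw [lift_snd, whiskerRight_snd]
  have hw2 : μ[R] ▷ G = lift ((fst (R ⊗ R) G ≫ fst R R) * (fst (R ⊗ R) G ≫ snd R R)) (snd (R ⊗ R) G) := by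
    refine CartesianMonoidalCategory.hom_ext _ _ ?_ ?_
    · rw [lift_fst, whiskerRight_fst, ← MonObj.comp_mul]
      congr 1
      rw [Hom.mul_def, lift_fst_snd, Category.id_comp]
    · rw [lift_snd, whiskerRight_snd]
  let A : AlgGrp.Action R G :=
    { act := act
      one_act := by
        rw [hw1, hact, MonObj.one_comp, leftUnitor_hom]
        simp
      mul_act := by
        have h3 : (α_ R R G).hom ≫ (R ◁ act) =
            lift (fst (R ⊗ R) G ≫ fst R R) (lift (fst (R ⊗ R) G ≫ snd R R) (snd (R ⊗ R) G) ≫ act) := by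
          refine CartesianMonoidalCategory.hom_ext _ _ ?_ ?_
          · simp
          · rw [lift_snd, Category.assoc, whiskerLeft_snd, ← Category.assoc]
            congr 1
            ext <;> simp
        rw [hw2, hact, ← Category.assoc, h3, hact, hact, MonObj.mul_comp]
        group }
  obtain ⟨S', f, hflat, hsurj, -, hloc⟩ := id hR
  haveI := hflat
  haveI := hsurj
  have key := H21Diag.action_trivial_of_fibres (a := A) f (fun s' => by
    obtain ⟨U, hU, r, hr⟩ := hloc s'
    exact ⟨U, hU, Fin r → ℤ, inferInstance, hr⟩) (fun s Y p hp a b => by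
      change lift a b ≫ act = b
      rw [hact, mul_inv_eq_iff_eq_mul]
      obtain ⟨Ω, _, _, z, rfl, hconn, hnil⟩ := hG s
      haveI := hconn
      haveI := hnil
      haveI := Scheme.isLocalHom_stalkClosedPointTo' z
      let d : Spec (CommRingCat.of Ω) ⟶ Spec (S.residueField (z.base (IsLocalRing.closedPoint Ω))) :=
        Spec.map (Scheme.descResidueField (Scheme.stalkClosedPointTo z))
      have hd : d ≫ S.fromSpecResidueField _ = z :=
        S.descResidueField_stalkClosedPointTo_fromSpecResidueField Ω z
      haveI : Flat d := by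
        refine Flat.SpecMap_iff.mpr ?_
        let := (Scheme.descResidueField (Scheme.stalkClosedPointTo z)).hom.toAlgebra
        exact (inferInstance : Module.Flat (S.residueField (z.base (IsLocalRing.closedPoint Ω))) Ω)
      haveI : Surjective d := ⟨fun x => ⟨IsLocalRing.closedPoint Ω, Subsingleton.elim (α := PrimeSpectrum _) _ _⟩⟩
      let W : Over S := Over.mk (pullback.fst p d ≫ Y.hom)
      let π : W ⟶ Y := Over.homMk (pullback.fst p d) rfl
      haveI : Epi π.left := inferInstanceAs (Epi (pullback.fst p d))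
      haveI : Epi π := Over.epi_of_epi_left π
      rw [← cancel_epi π, MonObj.comp_mul, MonObj.comp_mul, ← Category.assoc π a j]
      let V : Over (Spec (CommRingCat.of Ω)) := Over.mk (pullback.snd p d)
      let e : W ≅ (Over.map z).obj V := Over.isoMk (Iso.refl _) (by
        change 𝟙 _ ≫ pullback.snd p d ≫ z = pullback.fst p d ≫ Y.hom
        rw [Category.id_comp, ← hp, pullback.condition_assoc, hd])
      rw [← cancel_epi e.inv, MonObj.comp_mul, MonObj.comp_mul, ← Category.assoc e.inv (π ≫ a) j]
      apply (H21Diag.bcEquiv z G V).injective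
      rw [H21Diag.bcEquiv_mul, H21Diag.bcEquiv_mul]
      haveI : Smooth (Red.bc z G).hom := MorphismProperty.pullback_snd (P := @Smooth) _ _ inferInstance
      haveI : IsAffineHom (Red.bc z G).hom := MorphismProperty.pullback_snd (P := @IsAffineHom) _ _ inferInstance
      haveI : IsAffine (Red.bc z G).left := isAffine_of_isAffineHom (Red.bc z G).hom
      haveI : IsMonHom ((Over.pullback z).map j) := H21Diag.isMonHom_map z j
      rw [show H21Diag.bcEquiv z G V ((e.inv ≫ π ≫ a) ≫ j) =
          H21Diag.bcEquiv z R V (e.inv ≫ π ≫ a) ≫ (Over.pullback z).map j from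
        (Over.mapPullbackAdj z).homEquiv_naturality_right _ j]
      exact torus_central ((Over.pullback z).map j) (H21Diag.isTorus_bc hR z) V _ _)
    X x g
  change lift x g ≫ act = g at key
  rw [hact, mul_inv_eq_iff_eq_mul] at key
  exact key

end Groth.Agent.H21Nilp
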